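import Groth.Agent.Fano.K714.Surf
import Mathlib.RingTheory.Nullstellensatz
import Mathlib.RingTheory.Valuation.LocalSubring
import Mathlib.RingTheory.Derivation.Basic
import Mathlib.FieldTheory.Perfect

/-!
# The Gauss map of a smooth cubic threefold is finite: derivations
-/

set_option autoImplicit false
universe u

namespace K354.Gauss

open K656.Trilin Module K714.Surf MvPolynomial

variable {k : Type u} [Field k]

/-- The `i`-th partial derivative (up to a factor) of the cubic form, as a polynomial. -/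
noncomputable def Phi (T : (Fin 5 → k) →ₗ[k] (Fin 5 → k) →ₗ[k] (Fin 5 → k) →ₗ[k] k) (i : Fin 5) :
    MvPolynomial (Fin 5) k :=
  ∑ a, ∑ b, C (T (Pi.single a 1) (Pi.single b 1) (Pi.single i 1)) * X a * X b

variable (T : (Fin 5 → k) →ₗ[k] (Fin 5 → k) →ₗ[k] (Fin 5 → k) →ₗ[k] k)

theorem aeval_Phi {B : Type*} [CommRing B] [Algebra k B] (x : Fin 5 → B) (i : Fin 5) :
    aeval x (Phi T i) = ∑ a, ∑ b, algebraMap k B (T (Pi.single a 1) (Pi.single b 1) (Pi.single i 1)) * x a * x b := by
  rw [Phi, map_sum]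
  refine Finset.sum_congr rfl fun a _ => ?_
  rw [map_sum]
  refine Finset.sum_congr rfl fun b _ => ?_
  rw [map_mul, map_mul, aeval_X, aeval_X, aeval_C]

theorem eval_Phi (v : Fin 5 → k) (i : Fin 5) : eval v (Phi T i) = T v v (Pi.single i 1) := by
  have hv : v = ∑ a, v a • Pi.single a (1 : k) := by
    simpa using (Pi.basisFun k (Fin 5)).sum_repr v |>.symm
  have h1 := aeval_Phi T v i
  have h2 : eval v (Phi T i) = aeval v (Phi T i) := by
    rw [← coe_aeval_eq_eval]
    rfl
  rw [h2, h1]
  conv_rhs => rw [hv]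
  simp only [map_sum, LinearMap.sum_apply, map_smul, LinearMap.smul_apply, smul_eq_mul,
    Algebra.algebraMap_self, RingHom.id_apply]
  rw [Finset.sum_comm]
  refine Finset.sum_congr rfl fun a _ => ?_
  rw [Finset.mul_sum]
  refine Finset.sum_congr rfl fun b _ => ?_
  ring

theorem exists_pow_mem [IsAlgClosed k] (hsm : SmoothOn T ⊤) (j : Fin 5) :
    ∃ n : ℕ, (X j : MvPolynomial (Fin 5) k) ^ n ∈ Ideal.span (Set.range (Phi T)) := by
  have h1 : (X j : MvPolynomial (Fin 5) k) ∈ vanishingIdeal k (zeroLocus k (Ideal.span (Set.range (Phi T)))) := by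
    rw [mem_vanishingIdeal_iff]
    intro v hv
    rw [zeroLocus_span] at hv
    have h2 : ∀ i, T v v (Pi.single i 1) = 0 := fun i => by
      rw [← eval_Phi, ← coe_aeval_eq_eval]
      exact hv (Phi T i) ⟨i, rfl⟩
    have h3 : ∀ w, T v v w = 0 := by
      intro w
      have hw : w = ∑ a, w a • Pi.single a (1 : k) := by
        simpa using (Pi.basisFun k (Fin 5)).sum_repr w |>.symm
      rw [hw, map_sum]
      refine Finset.sum_eq_zero fun a _ => ?_
      rw [map_smul, h2, smul_zero]
    rw [aeval_X]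
    by_contra hvj
    have hv0 : v ≠ 0 := fun h0 => hvj (by rw [h0]; rfl)
    obtain ⟨w, -, hw⟩ := hsm v trivial hv0 (h3 v)
    exact hw (h3 w)
  rw [vanishingIdeal_zeroLocus_eq_radical] at h1
  exact h1

theorem mem_valuationSubring [IsAlgClosed k] (hsm : SmoothOn T ⊤) {Ω : Type u} [Field Ω] [Algebra k Ω]
    (x h : Fin 5 → Ω)
    (hx : ∀ i, ∑ a, ∑ b, algebraMap k Ω (T (Pi.single a 1) (Pi.single b 1) (Pi.single i 1)) * x a * x b = h i)
    (V : ValuationSubring Ω) (hk : ∀ c : k, algebraMap k Ω c ∈ V) (hh : ∀ i, h i ∈ V) (j : Fin 5) : x j ∈ V := by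
  by_contra hj
  obtain ⟨m, hm⟩ := Finite.exists_max (fun i => V.valuation (x i))
  have hvm : 1 < V.valuation (x m) := by
    rw [← V.valuation_le_one_iff, not_le] at hj
    exact hj.trans_le (hm j)
  have hxm : x m ≠ 0 := by
    intro h0
    rw [h0, map_zero] at hvm
    exact not_lt_zero hvm
  let y : Fin 5 → Ω := fun i => x i / x m
  have hy : ∀ i, y i ∈ V := by
    intro i
    rw [← V.valuation_le_one_iff, map_div₀]
    exact div_le_one_of_le₀ (hm i) zero_le
  have hym : y m = 1 := div_self hxm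
  obtain ⟨n, hn⟩ := exists_pow_mem T hsm m
  rw [Ideal.mem_span_range_iff_exists_fun] at hn
  obtain ⟨g, hg⟩ := hn
  have h1 := congrArg (aeval y) hg
  rw [map_sum, map_pow, aeval_X, hym, one_pow] at h1
  let SV : Subalgebra k Ω := { V.toSubring with algebraMap_mem' := hk }
  have hgV : ∀ i, aeval y (g i) ∈ V := by
    intro i
    have h2 : aeval y (g i) ∈ Algebra.adjoin k (Set.range y) := by
      rw [← aeval_range]
      exact ⟨_, rfl⟩
    have h3 : Algebra.adjoin k (Set.range y) ≤ SV := Algebra.adjoin_le (by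
      rintro _ ⟨i, rfl⟩
      exact hy i)
    exact h3 h2
  have hΦ : ∀ i, aeval y (Phi T i) = h i / (x m) ^ 2 := by
    intro i
    rw [aeval_Phi, ← hx i, Finset.sum_div]
    refine Finset.sum_congr rfl fun a _ => ?_
    rw [Finset.sum_div]
    refine Finset.sum_congr rfl fun b _ => ?_
    change _ * (x a / x m) * (x b / x m) = _
    field_simp
  have hlt : V.valuation (∑ i, aeval y (g i * Phi T i)) < 1 := by
    apply Valuation.map_sum_lt _ one_ne_zero
    intro i _
    rw [map_mul, hΦ, map_mul, map_div₀, map_pow]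
    have h2 : V.valuation (aeval y (g i)) ≤ 1 := (V.valuation_le_one_iff _).mpr (hgV i)
    have h3 : V.valuation (h i) ≤ 1 := (V.valuation_le_one_iff _).mpr (hh i)
    have h4 : 1 < V.valuation (x m) ^ 2 := one_lt_pow₀ hvm two_ne_zero
    have h5 : V.valuation (h i) / V.valuation (x m) ^ 2 < 1 :=
      (div_lt_one₀ (zero_lt_one.trans h4)).mpr (h3.trans_lt h4)
    exact (mul_le_of_le_one_left' h2).trans_lt h5
  rw [h1, map_one] at hlt
  exact lt_irrefl _ hlt

/-- The field of constants of a derivation. -/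
def constField {Ω : Type u} [Field Ω] [Algebra k Ω] (δ : Derivation k Ω Ω) : Subfield Ω where
  carrier := {y | δ y = 0}
  mul_mem' {a b} ha hb := by
    change δ (a * b) = 0
    rw [δ.leibniz, show δ a = 0 from ha, show δ b = 0 from hb, smul_zero, smul_zero, add_zero]
  one_mem' := δ.map_one_eq_zero
  add_mem' {a b} ha hb := by
    change δ (a + b) = 0
    rw [map_add, show δ a = 0 from ha, show δ b = 0 from hb, add_zero]
  zero_mem' := map_zero δ
  neg_mem' {a} ha := by
    change δ (-a) = 0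
    rw [map_neg, show δ a = 0 from ha, neg_zero]
  inv_mem' a ha := by
    change δ a⁻¹ = 0
    rw [Derivation.leibniz_inv, show δ a = 0 from ha, smul_zero]

theorem mem_constField {Ω : Type u} [Field Ω] [Algebra k Ω] (δ : Derivation k Ω Ω) (y : Ω) :
    y ∈ constField δ ↔ δ y = 0 := Iff.rfl

/-- A derivation is linear over its constants. -/
def derL {Ω : Type u} [Field Ω] [Algebra k Ω] (δ : Derivation k Ω Ω) : Derivation (constField δ) Ω Ω where
  toFun := δ
  map_add' := map_add δ
  map_smul' a y := by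
    change δ ((a : Ω) * y) = (a : Ω) * δ y
    rw [δ.leibniz, show δ (a : Ω) = 0 from a.2, smul_zero, add_zero, smul_eq_mul]
  map_one_eq_zero' := δ.map_one_eq_zero
  leibniz' := δ.leibniz

theorem eq_zero_of_isIntegral {Ω : Type u} [Field Ω] [CharZero Ω] [Algebra k Ω] (δ : Derivation k Ω Ω) (x : Ω)
    (hx : IsIntegral (constField δ) x) : δ x = 0 := by
  have hsep : (minpoly (constField δ) x).Separable := (minpoly.irreducible hx).separable
  have h1 : derL δ (Polynomial.aeval x (minpoly (constField δ) x)) = 0 := by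
    rw [minpoly.aeval, map_zero]
  rw [Derivation.map_aeval, smul_eq_mul, mul_eq_zero] at h1
  exact h1.resolve_left (hsep.aeval_derivative_ne_zero (minpoly.aeval _ _))

theorem gauss_const [IsAlgClosed k] {T : (Fin 5 → k) →ₗ[k] (Fin 5 → k) →ₗ[k] (Fin 5 → k) →ₗ[k] k}
    (hsm : SmoothOn T ⊤) {Ω : Type u} [Field Ω] [CharZero Ω] [Algebra k Ω] (x h : Fin 5 → Ω)
    (hx : ∀ i, ∑ a, ∑ b, algebraMap k Ω (T (Pi.single a 1) (Pi.single b 1) (Pi.single i 1)) * x a * x b = h i)
    (δ : Derivation k Ω Ω) (hδ : ∀ i, δ (h i) = 0) (j : Fin 5) : δ (x j) = 0 := by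
  apply eq_zero_of_isIntegral
  by_contra hj
  have hj' : x j ∉ (integralClosure (constField δ) Ω).toSubring := hj
  obtain ⟨V, hV, hxV⟩ := Subring.exists_le_valuationSubring_of_isIntegrallyClosedIn hj'
  have hc : ∀ y : Ω, δ y = 0 → y ∈ V := by
    intro y hy
    apply hV
    exact isIntegral_algebraMap (R := constField δ) (x := ⟨y, hy⟩)
  exact hxV (mem_valuationSubring T hsm x h hx V (fun c => hc _ (δ.map_algebraMap c)) (fun i => hc _ (hδ i)) j)

end K354.Gauss
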